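import Mathlib

set_option autoImplicit false

/-!
Chains of point stabilisers in subgroups of a finite symmetric group: the orbit-stabiliser
identity along a base, words in letters given by tables, and graphs given by neighbourhood masks
with a rigidity check for their automorphisms.
-/

namespace Cfsg.Agent.Helper9.PChain

open MulAction

variable {n : ℕ}

/-- the permutations fixing every point of a list. -/
def fixing (l : List (Fin n)) : Subgroup (Equiv.Perm (Fin n)) where
  carrier := {σ | ∀ x ∈ l, σ x = x}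
  one_mem' := fun _ _ => rfl
  mul_mem' := by
    intro a b ha hb x hx
    change a (b x) = x
    rw [hb x hx, ha x hx]
  inv_mem' := by
    intro a ha x hx
    rw [Equiv.Perm.inv_eq_iff_eq]
    exact (ha x hx).symm

theorem mem_fixing (l : List (Fin n)) (σ : Equiv.Perm (Fin n)) :
    σ ∈ fixing l ↔ ∀ x ∈ l, σ x = x := Iff.rfl

theorem fixing_nil : fixing ([] : List (Fin n)) = ⊤ := by
  ext σ
  simp [mem_fixing]

theorem mem_fixing_append (l : List (Fin n)) (b : Fin n) (σ : Equiv.Perm (Fin n)) :
    σ ∈ fixing (l ++ [b]) ↔ σ ∈ fixing l ∧ σ b = b := by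
  rw [mem_fixing, mem_fixing]
  constructor
  · intro h
    exact ⟨fun x hx => h x (List.mem_append_left _ hx),
      h b (List.mem_append_right _ (List.mem_singleton.2 rfl))⟩
  · rintro ⟨h1, h2⟩ x hx
    rcases List.mem_append.1 hx with h | h
    · exact h1 x h
    · rw [List.mem_singleton.1 h]
      exact h2

/-- the stabiliser of a point in a stabiliser of the chain. -/
def stabEquiv (H : Subgroup (Equiv.Perm (Fin n))) (l : List (Fin n)) (b : Fin n) :
    ↥(stabilizer ↥(H ⊓ fixing l) b) ≃ ↥(H ⊓ fixing (l ++ [b])) where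
  toFun x := ⟨x.1.1, by
    have h1 := x.1.2
    have h2 : x.1.1 b = b := x.2
    rw [Subgroup.mem_inf] at h1 ⊢
    exact ⟨h1.1, (mem_fixing_append l b _).2 ⟨h1.2, h2⟩⟩⟩
  invFun y := ⟨⟨y.1, by
    have h1 := y.2
    rw [Subgroup.mem_inf] at h1 ⊢
    exact ⟨h1.1, ((mem_fixing_append l b _).1 h1.2).1⟩⟩, by
    have h1 := y.2
    rw [Subgroup.mem_inf] at h1
    exact ((mem_fixing_append l b _).1 h1.2).2⟩
  left_inv x := rfl
  right_inv y := rfl

/-- the orbit-stabiliser identity along the chain. -/
theorem card_chain (H : Subgroup (Equiv.Perm (Fin n))) (l : List (Fin n)) (b : Fin n) :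
    Nat.card ↥(H ⊓ fixing l) =
      (orbit ↥(H ⊓ fixing l) b).ncard * Nat.card ↥(H ⊓ fixing (l ++ [b])) := by
  rw [← Nat.card_congr (stabEquiv H l b), ← index_stabilizer, Subgroup.index_mul_card]

/-- the upper bound. -/
theorem card_le_step (H : Subgroup (Equiv.Perm (Fin n))) (l : List (Fin n)) (b : Fin n)
    (C : Finset (Fin n)) (hC : ∀ σ ∈ H ⊓ fixing l, σ b ∈ C) (c : ℕ)
    (hc : Nat.card ↥(H ⊓ fixing (l ++ [b])) ≤ c) :
    Nat.card ↥(H ⊓ fixing l) ≤ C.card * c := by
  rw [card_chain H l b]
  refine Nat.mul_le_mul ?_ hc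
  have hsub : orbit ↥(H ⊓ fixing l) b ⊆ (C : Set (Fin n)) := by
    rintro y ⟨σ, rfl⟩
    exact hC σ.1 σ.2
  calc (orbit ↥(H ⊓ fixing l) b).ncard ≤ (C : Set (Fin n)).ncard :=
        Set.ncard_le_ncard hsub (Finset.finite_toSet C)
    _ = C.card := Set.ncard_coe_finset C

/-- the lower bound. -/
theorem card_ge_step (H : Subgroup (Equiv.Perm (Fin n))) (l : List (Fin n)) (b : Fin n)
    (O : Finset (Fin n)) (hO : ∀ y ∈ O, ∃ σ ∈ H ⊓ fixing l, σ b = y) (c : ℕ)
    (hc : c ≤ Nat.card ↥(H ⊓ fixing (l ++ [b]))) :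
    O.card * c ≤ Nat.card ↥(H ⊓ fixing l) := by
  rw [card_chain H l b]
  refine Nat.mul_le_mul ?_ hc
  have hsub : (O : Set (Fin n)) ⊆ orbit ↥(H ⊓ fixing l) b := by
    intro y hy
    obtain ⟨σ, hσ, rfl⟩ := hO y hy
    exact ⟨⟨σ, hσ⟩, rfl⟩
  calc O.card = (O : Set (Fin n)).ncard := (Set.ncard_coe_finset O).symm
    _ ≤ (orbit ↥(H ⊓ fixing l) b).ncard := Set.ncard_le_ncard hsub (Set.toFinite _)

/-! ### Words -/

/-- the image of a point under a word, the letters being given by a table. -/
def evalW (tab : ℕ → ℕ → ℕ) (w : List ℕ) (x : ℕ) : ℕ := w.foldr (fun l acc => tab l acc) x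

theorem prod_apply (tab : ℕ → ℕ → ℕ) (P : ℕ → Equiv.Perm (Fin n))
    (hP : ∀ l (x : Fin n), (P l x).val = tab l x.val) (w : List ℕ) (x : Fin n) :
    ((w.map P).prod x).val = evalW tab w x.val := by
  induction w with
  | nil => rfl
  | cons l w ih =>
    rw [List.map_cons, List.prod_cons]
    change (P l ((w.map P).prod x)).val = tab l (evalW tab w x.val)
    rw [hP, ih]

/-- a permutation from a table and the table of its inverse. -/
def mkPerm (f g : ℕ → ℕ) (hf : ∀ x, x < n → f x < n) (hg : ∀ x, x < n → g x < n)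
    (hgf : ∀ x, x < n → g (f x) = x) (hfg : ∀ x, x < n → f (g x) = x) : Equiv.Perm (Fin n) where
  toFun x := ⟨f x.val, hf _ x.isLt⟩
  invFun x := ⟨g x.val, hg _ x.isLt⟩
  left_inv x := Fin.ext (hgf _ x.isLt)
  right_inv x := Fin.ext (hfg _ x.isLt)

theorem mkPerm_apply (f g : ℕ → ℕ) (hf : ∀ x, x < n → f x < n) (hg : ∀ x, x < n → g x < n)
    (hgf : ∀ x, x < n → g (f x) = x) (hfg : ∀ x, x < n → f (g x) = x) (x : Fin n) :
    (mkPerm f g hf hg hgf hfg x).val = f x.val := rfl

/-! ### Graphs given by masks -/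

/-- the automorphisms of the graph whose neighbourhoods are given by masks. -/
def autGroup (n : ℕ) (nbr : ℕ → ℕ) : Subgroup (Equiv.Perm (Fin n)) where
  carrier := {σ | ∀ i j : Fin n, (nbr (σ i).val).testBit (σ j).val = (nbr i.val).testBit j.val}
  one_mem' := fun _ _ => rfl
  mul_mem' := by
    intro a b ha hb i j
    change (nbr (a (b i)).val).testBit (a (b j)).val = _
    rw [ha, hb]
  inv_mem' := by
    intro a ha i j
    have := ha (a⁻¹ i) (a⁻¹ j)
    have e1 : a (a⁻¹ i) = i := a.apply_symm_apply i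
    have e2 : a (a⁻¹ j) = j := a.apply_symm_apply j
    rw [e1, e2] at this
    exact this.symm

theorem mem_autGroup (nbr : ℕ → ℕ) (σ : Equiv.Perm (Fin n)) :
    σ ∈ autGroup n nbr ↔
      ∀ i j : Fin n, (nbr (σ i).val).testBit (σ j).val = (nbr i.val).testBit j.val := Iff.rfl

/-- the candidates for the image of a point under an automorphism fixing a list of points. -/
def cands (nbr : ℕ → ℕ) (l : List (Fin n)) (b : Fin n) : Finset (Fin n) :=
  Finset.univ.filter (fun w => w ∉ l ∧
    ∀ x ∈ l, (nbr x.val).testBit w.val = (nbr x.val).testBit b.val)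

theorem mem_cands (nbr : ℕ → ℕ) (l : List (Fin n)) (b : Fin n) (hb : b ∉ l)
    (σ : Equiv.Perm (Fin n)) (hσ : σ ∈ autGroup n nbr ⊓ fixing l) : σ b ∈ cands nbr l b := by
  rw [Subgroup.mem_inf] at hσ
  unfold cands
  rw [Finset.mem_filter]
  refine ⟨Finset.mem_univ _, ?_, ?_⟩
  · intro hmem
    have h1 := hσ.2 _ hmem
    have h2 : σ b = b := σ.injective h1
    rw [h2] at hmem
    exact hb hmem
  · intro x hx
    have h1 := (mem_autGroup nbr σ).1 hσ.1 x b
    rw [hσ.2 x hx] at h1
    exact h1

/-- one step of the rigidity check: every point of the mask `F'` is in the mask `F` or is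
determined by its adjacencies to the points of `F`. -/
def checkStep (n : ℕ) (nbr : ℕ → ℕ) (F F' : ℕ) : Bool :=
  (List.range n).all (fun v => !F'.testBit v || F.testBit v ||
    (List.range n).all (fun w => w == v || (nbr w &&& F) != (nbr v &&& F)))

theorem step_sound (nbr : ℕ → ℕ) (F F' : ℕ) (hF : F < 2 ^ n)
    (hstep : checkStep n nbr F F' = true) (σ : Equiv.Perm (Fin n)) (hσ : σ ∈ autGroup n nbr)
    (hfix : ∀ i : Fin n, F.testBit i.val = true → σ i = i) :
    ∀ i : Fin n, F'.testBit i.val = true → σ i = i := by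
  intro v hv
  unfold checkStep at hstep
  rw [List.all_eq_true] at hstep
  have h1 := hstep v.val (List.mem_range.2 v.isLt)
  rw [hv] at h1
  simp only [Bool.not_true, Bool.false_or, Bool.or_eq_true] at h1
  rcases h1 with h1 | h1
  · exact hfix v h1
  · rw [List.all_eq_true] at h1
    have h2 := h1 (σ v).val (List.mem_range.2 (σ v).isLt)
    simp only [Bool.or_eq_true, beq_iff_eq, bne_iff_ne, ne_eq] at h2
    rcases h2 with h2 | h2
    · exact Fin.ext h2
    · exfalso
      apply h2
      apply Nat.eq_of_testBit_eq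
      intro f
      rw [Nat.testBit_and, Nat.testBit_and]
      by_cases hf : F.testBit f = true
      · have hfn : f < n := by
          by_contra hge
          push Not at hge
          have : F.testBit f = false := by
            apply Nat.testBit_lt_two_pow
            exact lt_of_lt_of_le hF (Nat.pow_le_pow_right (by norm_num) hge)
          rw [this] at hf
          exact absurd hf (by decide)
        have h3 := (mem_autGroup nbr σ).1 hσ v ⟨f, hfn⟩
        rw [hfix ⟨f, hfn⟩ hf] at h3
        rw [hf, Bool.and_true, Bool.and_true]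
        exact h3
      · rw [Bool.not_eq_true] at hf
        rw [hf, Bool.and_false, Bool.and_false]

/-- an automorphism fixing every point is the identity. -/
theorem eq_one_of_full (σ : Equiv.Perm (Fin n)) (F : ℕ)
    (hfull : ∀ i : Fin n, F.testBit i.val = true)
    (hfix : ∀ i : Fin n, F.testBit i.val = true → σ i = i) : σ = 1 := by
  ext i
  rw [hfix i (hfull i)]
  rfl

end Cfsg.Agent.Helper9.PChain
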