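import Mathlib
import Cfsg.Agent.Helper9.J2.PChain
import Cfsg.Agent.Helper9.J2.Data

set_option autoImplicit false

/-!
The automorphism group of the graph has at most `1209600` elements.
-/

namespace Cfsg.Agent.Helper9.J2

open Cfsg.Agent.Helper9.PChain

/-- the neighbourhood masks. -/
def nbr (x : ℕ) : ℕ := nbrL.getD x 0

/-- the automorphism group of the graph. -/
abbrev A : Subgroup (Equiv.Perm (Fin 100)) := autGroup 100 nbr

set_option maxRecDepth 1000000 in
theorem cands0 : (cands nbr ([] : List (Fin 100)) 0).card = 100 := by decide +kernel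

set_option maxRecDepth 1000000 in
theorem cands1 : (cands nbr ([0] : List (Fin 100)) 37).card = 63 := by decide +kernel

set_option maxRecDepth 1000000 in
theorem cands2 : (cands nbr ([0, 37] : List (Fin 100)) 1).card = 24 := by decide +kernel

set_option maxRecDepth 1000000 in
theorem cands3 : (cands nbr ([0, 37, 1] : List (Fin 100)) 4).card = 4 := by decide +kernel

set_option maxRecDepth 1000000 in
theorem cands4 : (cands nbr ([0, 37, 1, 4] : List (Fin 100)) 27).card = 2 := by decide +kernel

def mask (j : ℕ) : ℕ := maskL.getD j 0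

set_option maxRecDepth 1000000 in
theorem step01 : checkStep 100 nbr (mask 0) (mask 1) = true := by decide +kernel

set_option maxRecDepth 1000000 in
theorem step12 : checkStep 100 nbr (mask 1) (mask 2) = true := by decide +kernel

set_option maxRecDepth 1000000 in
theorem step23 : checkStep 100 nbr (mask 2) (mask 3) = true := by decide +kernel

set_option maxRecDepth 1000000 in
theorem mask_lt : mask 0 < 2 ^ 100 ∧ mask 1 < 2 ^ 100 ∧ mask 2 < 2 ^ 100 := by decide +kernel

set_option maxRecDepth 1000000 in
theorem mask0_base : ∀ i : Fin 100, (mask 0).testBit i.val = true →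
    i ∈ ([0, 37, 1, 4, 27] : List (Fin 100)) := by decide +kernel

set_option maxRecDepth 1000000 in
theorem mask3_full : ∀ i : Fin 100, (mask 3).testBit i.val = true := by decide +kernel

theorem rigid (σ : Equiv.Perm (Fin 100))
    (hσ : σ ∈ A ⊓ fixing ([0, 37, 1, 4, 27] : List (Fin 100))) : σ = 1 := by
  rw [Subgroup.mem_inf] at hσ
  have h0 : ∀ i : Fin 100, (mask 0).testBit i.val = true → σ i = i :=
    fun i hi => hσ.2 i (mask0_base i hi)
  have h1 := step_sound nbr (mask 0) (mask 1) mask_lt.1 step01 σ hσ.1 h0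
  have h2 := step_sound nbr (mask 1) (mask 2) mask_lt.2.1 step12 σ hσ.1 h1
  have h3 := step_sound nbr (mask 2) (mask 3) mask_lt.2.2 step23 σ hσ.1 h2
  exact eq_one_of_full σ (mask 3) mask3_full h3

theorem card_A_le : Nat.card A ≤ 1209600 := by
  have h5 : Nat.card ↥(A ⊓ fixing ([0, 37, 1, 4, 27] : List (Fin 100))) ≤ 1 := by
    rw [Finite.card_le_one_iff_subsingleton]
    constructor
    intro x y
    apply Subtype.ext
    rw [rigid x.1 x.2, rigid y.1 y.2]
  have h4 := card_le_step A [0, 37, 1, 4] 27 (cands nbr [0, 37, 1, 4] 27)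
    (mem_cands nbr _ _ (by decide)) 1 h5
  rw [cands4] at h4
  have h3 := card_le_step A [0, 37, 1] 4 (cands nbr [0, 37, 1] 4)
    (mem_cands nbr _ _ (by decide)) _ h4
  rw [cands3] at h3
  have h2 := card_le_step A [0, 37] 1 (cands nbr [0, 37] 1)
    (mem_cands nbr _ _ (by decide)) _ h3
  rw [cands2] at h2
  have h1 := card_le_step A [0] 37 (cands nbr [0] 37)
    (mem_cands nbr _ _ (by decide)) _ h2
  rw [cands1] at h1
  have h0 := card_le_step A [] 0 (cands nbr [] 0)
    (mem_cands nbr _ _ (by decide)) _ h1
  rw [cands0] at h0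
  have e : A ⊓ fixing ([] : List (Fin 100)) = A := by
    rw [fixing_nil, inf_top_eq]
  rw [e] at h0
  exact h0

end Cfsg.Agent.Helper9.J2
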