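import Mathlib
import Cfsg.Agent.Helper9.J2.Aut
import Cfsg.Agent.Helper9.HSG.Group

set_option autoImplicit false

/-!
A group of even automorphisms of the graph, generated by four elements of order five, of order
`604800`.
-/

namespace Cfsg.Agent.Helper9.J2

open Cfsg.Agent.Helper9.PChain

/-- the tables of the letters. -/
def tab (l x : ℕ) : ℕ := if l < 4 then (tabL.getD l []).getD x 0 else x

/-- the inverse letter. -/
def linv (l : ℕ) : ℕ := (l + 2) % 4

set_option maxRecDepth 1000000 in
theorem tab_ok : ∀ l : Fin 4, ∀ x : Fin 100,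
    tab l.val x.val < 100 ∧ tab (linv l.val) (tab l.val x.val) = x.val := by decide +kernel

theorem tab_lt (l x : ℕ) (hx : x < 100) : tab l x < 100 := by
  by_cases hl : l < 4
  · exact (tab_ok ⟨l, hl⟩ ⟨x, hx⟩).1
  · unfold tab
    rw [if_neg hl]
    exact hx

theorem linv_lt {l : ℕ} (_ : l < 4) : linv l < 4 := Nat.mod_lt _ (by norm_num)

theorem linv_linv {l : ℕ} (hl : l < 4) : linv (linv l) = l := by
  unfold linv
  omega

theorem tab_inv (l x : ℕ) (hl : l < 4) (hx : x < 100) : tab (linv l) (tab l x) = x :=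
  (tab_ok ⟨l, hl⟩ ⟨x, hx⟩).2

theorem tab_inv' (l x : ℕ) (hl : l < 4) (hx : x < 100) : tab l (tab (linv l) x) = x := by
  have := tab_inv (linv l) x (linv_lt hl) hx
  rwa [linv_linv hl] at this

/-- the letters as permutations. -/
def P (l : ℕ) : Equiv.Perm (Fin 100) :=
  if hl : l < 4 then
    mkPerm (tab l) (tab (linv l)) (fun x hx => tab_lt l x hx) (fun x hx => tab_lt _ x hx)
      (fun x hx => tab_inv l x hl hx) (fun x hx => tab_inv' l x hl hx)
  else 1

theorem P_apply (l : ℕ) (x : Fin 100) : (P l x).val = tab l x.val := by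
  unfold P
  by_cases hl : l < 4
  · rw [dif_pos hl]
    rfl
  · rw [dif_neg hl]
    unfold tab
    rw [if_neg hl]
    rfl

/-- the group generated by the letters. -/
def G : Subgroup (Equiv.Perm (Fin 100)) := Subgroup.closure (Set.range fun l : Fin 4 => P l.val)

theorem P_mem (l : ℕ) : P l ∈ G := by
  by_cases hl : l < 4
  · exact Subgroup.subset_closure ⟨⟨l, hl⟩, rfl⟩
  · unfold P
    rw [dif_neg hl]
    exact G.one_mem

/-- the permutation of a word. -/
def permW (w : List ℕ) : Equiv.Perm (Fin 100) := (w.map P).prod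

theorem permW_mem (w : List ℕ) : permW w ∈ G := by
  apply Subgroup.list_prod_mem
  intro x hx
  obtain ⟨l, -, rfl⟩ := List.mem_map.1 hx
  exact P_mem l

theorem permW_apply (w : List ℕ) (x : Fin 100) : (permW w x).val = evalW tab w x.val :=
  prod_apply tab P P_apply w x

/-! ### The lower bound -/

/-- the check of the witnesses of one level. -/
def checkLevel (l : List ℕ) (b : ℕ) (O : List ℕ) (W : List (List ℕ)) : Bool :=
  O.all (fun y => evalW tab (W.getD y []) b == y &&
    l.all (fun x => evalW tab (W.getD y []) x == x))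

/-- the points of a list. -/
def ptsOf (O : List ℕ) : Finset (Fin 100) := Finset.univ.filter (fun y => y.val ∈ O)

theorem level_wit (l : List (Fin 100)) (b : Fin 100) (O : List ℕ) (W : List (List ℕ))
    (hchk : checkLevel (l.map Fin.val) b.val O W = true) :
    ∀ y ∈ ptsOf O, ∃ σ ∈ G ⊓ fixing l, σ b = y := by
  intro y hy
  unfold ptsOf at hy
  rw [Finset.mem_filter] at hy
  unfold checkLevel at hchk
  rw [List.all_eq_true] at hchk
  have h1 := hchk y.val hy.2
  rw [Bool.and_eq_true, beq_iff_eq, List.all_eq_true] at h1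
  refine ⟨permW (W.getD y.val []), Subgroup.mem_inf.2 ⟨permW_mem _, ?_⟩, ?_⟩
  · intro x hx
    apply Fin.ext
    rw [permW_apply]
    have := h1.2 x.val (List.mem_map.2 ⟨x, hx, rfl⟩)
    rwa [beq_iff_eq] at this
  · apply Fin.ext
    rw [permW_apply]
    exact h1.1

def p1 (y : ℕ) : List ℕ := p1L.getD y []

set_option maxRecDepth 1000000 in
theorem chk1 : checkLevel [] 0 p1O p1L = true := by decide +kernel

set_option maxRecDepth 1000000 in
theorem chk2 : checkLevel [0] 37 p2aO p2aL = true := by decide +kernel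

set_option maxRecDepth 1000000 in
theorem chk2b : checkLevel [0] 1 p2bO p2bL = true := by decide +kernel

set_option maxRecDepth 1000000 in
theorem chk3 : checkLevel [0, 37] 1 p3O p3L = true := by decide +kernel

set_option maxRecDepth 1000000 in
theorem chk4 : checkLevel [0, 37, 1] 2 p4O p4L = true := by decide +kernel

set_option maxRecDepth 1000000 in
theorem card_pts : (ptsOf p1O).card = 100 ∧ (ptsOf p2aO).card = 63 ∧ (ptsOf p2bO).card = 36 ∧
    (ptsOf p3O).card = 24 ∧ (ptsOf p4O).card = 4 := by decide +kernel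

theorem card_G_ge : 604800 ≤ Nat.card G := by
  have h5 : 1 ≤ Nat.card ↥(G ⊓ fixing ([0, 37, 1, 2] : List (Fin 100))) := Nat.card_pos
  have h4 := card_ge_step G [0, 37, 1] 2 (ptsOf p4O) (level_wit [0, 37, 1] 2 p4O p4L chk4) 1 h5
  rw [card_pts.2.2.2.2] at h4
  have h3 := card_ge_step G [0, 37] 1 (ptsOf p3O) (level_wit [0, 37] 1 p3O p3L chk3) _ h4
  rw [card_pts.2.2.2.1] at h3
  have h2 := card_ge_step G [0] 37 (ptsOf p2aO) (level_wit [0] 37 p2aO p2aL chk2) _ h3
  rw [card_pts.2.1] at h2
  have h1 := card_ge_step G [] 0 (ptsOf p1O) (level_wit [] 0 p1O p1L chk1) _ h2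
  rw [card_pts.1] at h1
  have e : G ⊓ fixing ([] : List (Fin 100)) = G := by
    rw [fixing_nil, inf_top_eq]
  rw [e] at h1
  exact h1

end Cfsg.Agent.Helper9.J2
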