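import Mathlib
import Cfsg.Agent.Helper9.J2.Grp

set_option autoImplicit false

/-!
The group `G` consists of even automorphisms of the graph, and the graph has an odd
automorphism, so that `G` has exactly `604800` elements.
-/

namespace Cfsg.Agent.Helper9.J2

open Cfsg.Agent.Helper9.PChain Cfsg.Agent.Helper9.HSG

set_option maxRecDepth 1000000 in
theorem tab_aut : ∀ l : Fin 4, ∀ i : Fin 100, ∀ j : Fin 100,
    (nbr (tab l.val i.val)).testBit (tab l.val j.val) = (nbr i.val).testBit j.val := by
  decide +kernel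

theorem P_mem_A (l : ℕ) : P l ∈ A := by
  by_cases hl : l < 4
  · rw [mem_autGroup]
    intro i j
    rw [P_apply, P_apply]
    exact tab_aut ⟨l, hl⟩ i j
  · unfold P
    rw [dif_neg hl]
    exact A.one_mem

set_option maxRecDepth 1000000 in
theorem tab_pow5 : ∀ l : Fin 4, ∀ x : Fin 100,
    evalW tab [l.val, l.val, l.val, l.val, l.val] x.val = x.val := by decide +kernel

theorem P_pow5 (l : ℕ) : P l ^ 5 = 1 := by
  by_cases hl : l < 4
  · ext x
    have h1 : P l ^ 5 = permW [l, l, l, l, l] := by
      unfold permW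
      simp only [List.map_cons, List.map_nil, List.prod_cons, List.prod_nil, mul_one]
      rw [pow_succ, pow_succ, pow_succ, pow_succ, pow_one]
      simp only [mul_assoc]
    rw [h1, permW_apply]
    exact tab_pow5 ⟨l, hl⟩ x
  · unfold P
    rw [dif_neg hl, one_pow]

theorem sign_P (l : ℕ) : Equiv.Perm.sign (P l) = 1 := by
  have h1 : Equiv.Perm.sign (P l) ^ 5 = 1 := by
    rw [← map_pow, P_pow5, map_one]
  rcases Int.units_eq_one_or (Equiv.Perm.sign (P l)) with h | h
  · exact h
  · rw [h] at h1
    exact absurd h1 (by decide)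

theorem G_le : G ≤ A ⊓ alternatingGroup (Fin 100) := by
  unfold G
  rw [Subgroup.closure_le]
  rintro x ⟨l, rfl⟩
  exact Subgroup.mem_inf.2 ⟨P_mem_A l.val, Equiv.Perm.mem_alternatingGroup.2 (sign_P l.val)⟩

/-! ### An odd automorphism -/

def tau (x : ℕ) : ℕ := tauL.getD x 0

set_option maxRecDepth 1000000 in
theorem tau_ok : ∀ x : Fin 100, tau x.val < 100 ∧ tau (tau x.val) = x.val := by decide +kernel

/-- the odd automorphism. -/
def T : Equiv.Perm (Fin 100) :=
  mkPerm tau tau (fun x hx => (tau_ok ⟨x, hx⟩).1) (fun x hx => (tau_ok ⟨x, hx⟩).1)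
    (fun x hx => (tau_ok ⟨x, hx⟩).2) (fun x hx => (tau_ok ⟨x, hx⟩).2)

theorem T_apply (x : Fin 100) : (T x).val = tau x.val := rfl

set_option maxRecDepth 1000000 in
theorem tau_aut : ∀ i : Fin 100, ∀ j : Fin 100,
    (nbr (tau i.val)).testBit (tau j.val) = (nbr i.val).testBit j.val := by
  decide +kernel

theorem T_mem_A : T ∈ A := by
  rw [mem_autGroup]
  intro i j
  rw [T_apply, T_apply]
  exact tau_aut i j

/-- a transposition. -/
def sw (p : ℕ × ℕ) : Equiv.Perm (Fin 100) :=
  Equiv.swap ⟨p.1 % 100, Nat.mod_lt _ (by norm_num)⟩ ⟨p.2 % 100, Nat.mod_lt _ (by norm_num)⟩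

/-- the image of a point under a product of transpositions. -/
def evalS (L : List (ℕ × ℕ)) (x : ℕ) : ℕ :=
  L.foldr (fun p acc => if acc = p.1 % 100 then p.2 % 100 else if acc = p.2 % 100 then p.1 % 100
    else acc) x

theorem swap_val (a b z : Fin 100) :
    (Equiv.swap a b z).val =
      if z.val = a.val then b.val else if z.val = b.val then a.val else z.val := by
  rw [Equiv.swap_apply_def]
  simp only [Fin.val_inj]
  split_ifs <;> rfl

theorem prod_sw_apply (L : List (ℕ × ℕ)) (x : Fin 100) :
    ((L.map sw).prod x).val = evalS L x.val := by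
  induction L with
  | nil => rfl
  | cons p L ih =>
    rw [List.map_cons, List.prod_cons]
    change (sw p ((L.map sw).prod x)).val = _
    unfold evalS
    rw [List.foldr_cons]
    change _ = if evalS L x.val = p.1 % 100 then p.2 % 100 else
      if evalS L x.val = p.2 % 100 then p.1 % 100 else evalS L x.val
    rw [← ih]
    unfold sw
    rw [swap_val]

set_option maxRecDepth 1000000 in
theorem tau_swaps : ∀ x : Fin 100, evalS swapL x.val = tau x.val := by decide +kernel

theorem T_eq : T = (swapL.map sw).prod := by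
  ext x
  rw [prod_sw_apply, T_apply, tau_swaps]

theorem sign_prod_sw (L : List (ℕ × ℕ)) (hL : ∀ p ∈ L, p.1 % 100 ≠ p.2 % 100) :
    Equiv.Perm.sign ((L.map sw).prod) = (-1) ^ L.length := by
  induction L with
  | nil => simp
  | cons p L ih =>
    rw [List.map_cons, List.prod_cons, map_mul, ih (fun q hq => hL q (List.mem_cons_of_mem _ hq)),
      List.length_cons, pow_succ, mul_comm]
    congr 1
    unfold sw
    apply Equiv.Perm.sign_swap
    intro h
    exact hL p List.mem_cons_self (congrArg Fin.val h)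

set_option maxRecDepth 1000000 in
theorem swaps_ne : ∀ p ∈ swapL, p.1 % 100 ≠ p.2 % 100 := by decide +kernel

theorem sign_T : Equiv.Perm.sign T = -1 := by
  rw [T_eq, sign_prod_sw swapL swaps_ne]
  have : swapL.length = 43 := by decide
  rw [this]
  decide

/-- the sign on the automorphism group. -/
def sgnA : ↥A →* ℤˣ := Equiv.Perm.sign.comp A.subtype

theorem card_G_le : Nat.card G ≤ 604800 := by
  have hidx : sgnA.ker.index = 2 := index_ker_of_neg_one sgnA ⟨T, T_mem_A⟩ sign_T
  have h1 := Subgroup.index_mul_card sgnA.ker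
  rw [hidx] at h1
  have h2 : Nat.card G ≤ Nat.card sgnA.ker := by
    have hmem : ∀ g : G, (⟨g.1, (Subgroup.mem_inf.1 (G_le g.2)).1⟩ : A) ∈ sgnA.ker := by
      intro g
      rw [MonoidHom.mem_ker]
      exact Equiv.Perm.mem_alternatingGroup.1 (Subgroup.mem_inf.1 (G_le g.2)).2
    apply Nat.card_le_card_of_injective
      (fun g : G => (⟨⟨g.1, (Subgroup.mem_inf.1 (G_le g.2)).1⟩, hmem g⟩ : sgnA.ker))
    intro g g' h
    apply Subtype.ext
    have := congrArg (fun z : sgnA.ker => (z.1.1 : Equiv.Perm (Fin 100))) h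
    exact this
  have h3 := card_A_le
  omega

theorem card_G : Nat.card G = 604800 := le_antisymm card_G_le card_G_ge

end Cfsg.Agent.Helper9.J2
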