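import Mathlib
import Cfsg.Agent.Helper9.J2.Even
import Cfsg.Agent.Helper9.PrimSimple2
import Cfsg.Agent.Helper9.PrimSimple6

set_option autoImplicit false

/-!
The group `G` is primitive on the 100 vertices, and simple.
-/

namespace Cfsg.Agent.Helper9.J2

open Cfsg.Agent.Helper9.PChain MulAction

theorem pts1_univ : ptsOf p1O = Finset.univ := by
  rw [← Finset.card_eq_iff_eq_univ, card_pts.1]
  rfl

theorem exists_of_zero (y : Fin 100) : ∃ σ ∈ G, σ 0 = y := by
  obtain ⟨σ, hσ, h⟩ := level_wit [] 0 p1O p1L chk1 y (by rw [pts1_univ]; exact Finset.mem_univ _)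
  exact ⟨σ, (Subgroup.mem_inf.1 hσ).1, h⟩

instance pretransitive : IsPretransitive ↥G (Fin 100) := by
  constructor
  intro x y
  obtain ⟨σ, hσ, h1⟩ := exists_of_zero x
  obtain ⟨τ, hτ, h2⟩ := exists_of_zero y
  refine ⟨⟨τ * σ⁻¹, G.mul_mem hτ (G.inv_mem hσ)⟩, ?_⟩
  change τ (σ⁻¹ x) = y
  rw [← h1, ← h2]
  congr 1
  exact σ.symm_apply_apply 0

/-- the colour of a vertex. -/
def colour (y : Fin 100) : ℤ := if y.val ∈ p2bO then 1 else if y.val ∈ p2aO then 2 else 0

set_option maxRecDepth 1000000 in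
theorem colour_iff : ∀ y : Fin 100,
    (colour y = 1 ↔ y ∈ ptsOf p2bO) ∧ (colour y = 2 ↔ y ∈ ptsOf p2aO) := by decide +kernel

theorem ncard_colour : ∀ c ∈ ({1, 2} : Finset ℤ),
    {y : Fin 100 | colour y = c}.ncard = (fun c : ℤ => if c = 1 then 36 else 63) c := by
  intro c hc
  rw [Finset.mem_insert, Finset.mem_singleton] at hc
  rcases hc with rfl | rfl
  · have : {y : Fin 100 | colour y = 1} = ↑(ptsOf p2bO) := by
      ext y
      exact (colour_iff y).1
    rw [this, Set.ncard_coe_finset, card_pts.2.2.1]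
    rfl
  · have : {y : Fin 100 | colour y = 2} = ↑(ptsOf p2aO) := by
      ext y
      exact (colour_iff y).2
    rw [this, Set.ncard_coe_finset, card_pts.2.1]
    rfl

theorem stab_move (b : Fin 100) (O : List ℕ) (W : List (List ℕ))
    (hchk : checkLevel [0] b.val O W = true) (y y' : Fin 100) (hy : y ∈ ptsOf O)
    (hy' : y' ∈ ptsOf O) : ∃ k ∈ stabilizer ↥G (0 : Fin 100), k • y = y' := by
  obtain ⟨σ, hσ, h1⟩ := level_wit [0] b O W hchk y hy
  obtain ⟨τ, hτ, h2⟩ := level_wit [0] b O W hchk y' hy'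
  rw [Subgroup.mem_inf] at hσ hτ
  have hσ0 : σ 0 = 0 := hσ.2 0 (List.mem_singleton.2 rfl)
  have hτ0 : τ 0 = 0 := hτ.2 0 (List.mem_singleton.2 rfl)
  refine ⟨⟨τ * σ⁻¹, G.mul_mem hτ.1 (G.inv_mem hσ.1)⟩, ?_, ?_⟩
  · rw [mem_stabilizer_iff]
    change τ (σ⁻¹ 0) = 0
    have : σ⁻¹ 0 = 0 := by
      rw [Equiv.Perm.inv_eq_iff_eq]
      exact hσ0.symm
    rw [this, hτ0]
  · change τ (σ⁻¹ y) = y'
    rw [← h1, ← h2]
    congr 1
    exact σ.symm_apply_apply b

instance preprimitive : IsPreprimitive ↥G (Fin 100) := by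
  refine Cfsg.Agent.Helper9.preprimitive_of_colours (0 : Fin 100) colour ({1, 2} : Finset ℤ)
    (fun c => if c = 1 then 36 else 63) 100 (by simp) (by decide) ncard_colour (by decide) ?_
    (by decide)
  intro y y' hy hyy'
  rw [Finset.mem_insert, Finset.mem_singleton] at hy
  rcases hy with h | h
  · have h' : colour y' = 1 := by rw [← hyy', h]
    exact stab_move 1 p2bO p2bL chk2b y y' ((colour_iff y).1.1 h) ((colour_iff y').1.1 h')
  · have h' : colour y' = 2 := by rw [← hyy', h]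
    exact stab_move 37 p2aO p2aL chk2 y y' ((colour_iff y).2.1 h) ((colour_iff y').2.1 h')

instance : Finite ↥G := inferInstance

instance nontrivial : Nontrivial ↥G := by
  rw [← Finite.one_lt_card_iff_nontrivial, card_G]
  norm_num

theorem simple : IsSimpleGroup ↥G := by
  refine Cfsg.Agent.Helper9.simple_of_prim_sylow (X := Fin 100) (0 : Fin 100) 5 2 (by norm_num)
    (by rw [Nat.card_eq_fintype_card, Fintype.card_fin]; norm_num)
    (by rw [card_G]; norm_num) ?_
  intro V hV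
  have hP : ∀ l : ℕ, (⟨P l, P_mem l⟩ : ↥G) ∈ V := by
    intro l
    apply hV
    apply Subtype.ext
    change (P l) ^ (5 ^ 2) = 1
    have : (5 : ℕ) ^ 2 = 5 * 5 := by norm_num
    rw [this, pow_mul, P_pow5, one_pow]
  rw [eq_top_iff]
  rintro ⟨g, hg⟩ -
  have key : G ≤ V.map G.subtype := by
    unfold G
    rw [Subgroup.closure_le]
    rintro x ⟨l, rfl⟩
    exact ⟨⟨P l.val, P_mem l.val⟩, hP l.val, rfl⟩
  obtain ⟨z, hz, hzg⟩ := key hg
  have : z = ⟨g, hg⟩ := Subtype.ext hzg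
  rw [← this]
  exact hz

end Cfsg.Agent.Helper9.J2
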